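import Mathlib
import Groth.Prelude.Def_Omega3

/-!
# Unbundled universal first order thickenings of rings
-/

set_option autoImplicit false
universe u

namespace Groth.Agent.H70.UTTrans

/-- Unbundled form of `OmegaSh.IsUnivThickeningRing`: `A --α--> B' --π--> B`, `π` surjective with
square-zero kernel, universal among such for the `A`-algebra `B`. -/
def UnivProp {A B' B : Type u} [CommRing A] [CommRing B'] [CommRing B] (α : A →+* B')
    (π : B' →+* B) : Prop :=
  Function.Surjective π ∧ RingHom.ker π ^ 2 = ⊥ ∧
    ∀ (D : Type u) [CommRing D] (δ : A →+* D) (L : Ideal D), L ^ 2 = ⊥ →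
      ∀ a : B →+* D ⧸ L, a.comp (π.comp α) = (Ideal.Quotient.mk L).comp δ →
        ∃! a' : B' →+* D, a'.comp α = δ ∧ (Ideal.Quotient.mk L).comp a' = a.comp π

end Groth.Agent.H70.UTTrans
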