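import Mathlib
import Groth.Prelude.Def_Omega3
import Groth.Agent.H70.UTTrans.Defs
import Groth.Agent.H24.UTT_CV
import Groth.Agent.H89.UTRing_UA
import Groth.Agent.H89.UTRing_UB

/-!
# Ring-level universal property of a scheme-level universal thickening on small affines
-/

set_option autoImplicit false
set_option linter.style.haveILetI false
universe u
open AlgebraicGeometry CategoryTheory Limits

namespace Groth.Agent.H70.UTTrans

theorem univProp_of_affineOpens {Z Z' X : Scheme.{u}} {h : Z ⟶ X} {i : Z ⟶ Z'}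
    {h' : Z' ⟶ X} (hu : OmegaSh.IsUnivThickening h i h')
    {V : X.Opens} (hV : IsAffineOpen V) {W' : Z'.Opens} (hW' : IsAffineOpen W')
    (e : W' ≤ h' ⁻¹ᵁ V) :
    UnivProp (h'.appLE V W' e).hom (i.app W').hom := by
  letI aAB' : Algebra Γ(X, V) Γ(Z', W') := (h'.appLE V W' e).hom.toAlgebra
  letI aAB : Algebra Γ(X, V) Γ(Z, i ⁻¹ᵁ W') := (h'.appLE V W' e ≫ i.app W').hom.toAlgebra
  let π : Γ(Z', W') →ₐ[Γ(X, V)] Γ(Z, i ⁻¹ᵁ W') := ⟨(i.app W').hom, fun r => rfl⟩
  have hua := Groth.Agent.H89.UTRingUA.isUnivThickening_spec_of_affineOpens hu hV hW' e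
  have hub : OmegaSh.IsUnivThickeningRing Γ(X, V) Γ(Z, i ⁻¹ᵁ W') Γ(Z', W') π :=
    Groth.Agent.H89.UTRingUB.isUnivThickeningRing_of_spec _ _ _ π hua
  exact Groth.Agent.H24.UTT_CV.univProp_of_isUnivThickeningRing _ _ _ π hub

end Groth.Agent.H70.UTTrans
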