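import Mathlib
import Groth.Agent.H41.ModGlue
import Groth.Agent.H39.PullTrack

/-!
# Retractions of restricted morphisms of quasi-coherent modules from sections over an affine
-/

set_option autoImplicit false
set_option linter.style.haveILetI false
universe u
open AlgebraicGeometry CategoryTheory Limits TopologicalSpace Opposite

namespace Groth.Agent.H70.UTTrans

open Groth.Agent.H8 Groth.Agent.H39

set_option maxHeartbeats 1000000 in
/-- (HM) a linear retraction on sections over an affine open gives a retraction of the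
restricted morphism of quasi-coherent modules. -/
theorem exists_restrict_retraction {X : Scheme.{u}} {F G : X.Modules} [F.IsQuasicoherent]
    [G.IsQuasicoherent] (ψ : G ⟶ F) {W : X.Opens} (hW : IsAffineOpen W)
    (ρ : Γ(F, W) →ₗ[Γ(X, W)] Γ(G, W)) (hρ : ∀ y : Γ(G, W), ρ (ψ.app W y) = y) :
    ∃ r : (Scheme.Modules.restrictFunctor W.ι).obj F ⟶ (Scheme.Modules.restrictFunctor W.ι).obj G,
      (Scheme.Modules.restrictFunctor W.ι).map ψ ≫ r = 𝟙 _ := by
  haveI : IsAffine W.toScheme := hW
  have hEq : W.ι ''ᵁ ⊤ = W := Scheme.Opens.ι_image_top W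
  haveI : ((Scheme.Modules.restrictFunctor W.ι).obj F).IsQuasicoherent := inferInstance
  haveI : ((Scheme.Modules.restrictFunctor W.ι).obj G).IsQuasicoherent := inferInstance
  -- the transported linear map
  let ρ' : Γ((Scheme.Modules.restrictFunctor W.ι).obj F, ⊤) →ₗ[Γ(W.toScheme, ⊤)]
      Γ((Scheme.Modules.restrictFunctor W.ι).obj G, ⊤) :=
    { toFun := fun x => G.presheaf.map (homOfLE hEq.le).op
        (ρ (F.presheaf.map (homOfLE hEq.ge).op (show Γ(F, W.ι ''ᵁ ⊤) from x)))
      map_add' := fun a b => by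
        show G.presheaf.map _ (ρ (F.presheaf.map _ (_ + _))) = _
        rw [map_add, map_add, map_add]
        rfl
      map_smul' := fun r x => by
        have h1 : (r • x : Γ((Scheme.Modules.restrictFunctor W.ι).obj F, ⊤)) =
            (show Γ(F, W.ι ''ᵁ ⊤) from
              ((W.ι.appIso ⊤).inv r : Γ(X, W.ι ''ᵁ ⊤)) • (show Γ(F, W.ι ''ᵁ ⊤) from x)) := rfl
        show G.presheaf.map _ (ρ (F.presheaf.map _ (show Γ(F, W.ι ''ᵁ ⊤) from r • x))) = _
        rw [h1, res_smul, map_smul, res_smul, ringRes_res]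
        have h2 : X.presheaf.map (homOfLE (hEq.le.trans hEq.ge)).op ((W.ι.appIso ⊤).inv r) =
            (W.ι.appIso ⊤).inv r := by
          have : (homOfLE (hEq.le.trans hEq.ge)).op = 𝟙 (op (W.ι ''ᵁ ⊤)) := rfl
          rw [this, X.presheaf.map_id]
          rfl
        rw [h2]
        rfl }
  have hdir : Groth.Agent.H41.ModGlue.FamDirected
      (F := (Scheme.Modules.restrictFunctor W.ι).obj F)
      (G := (Scheme.Modules.restrictFunctor W.ι).obj G)
      (fun _ : Unit => (⊤ : W.toScheme.Opens)) (fun _ => ρ') := by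
    intro i j y hyi hyj
    refine ⟨(), hyi, le_rfl, le_rfl, fun x => ?_, fun x => ?_⟩
    · have e1 : (homOfLE (le_refl (⊤ : W.toScheme.Opens))).op = 𝟙 _ := rfl
      rw [e1, CategoryTheory.Functor.map_id, CategoryTheory.Functor.map_id]
      rfl
    · have e1 : (homOfLE (le_refl (⊤ : W.toScheme.Opens))).op = 𝟙 _ := rfl
      rw [e1, CategoryTheory.Functor.map_id, CategoryTheory.Functor.map_id]
      rfl
  have hcov : IsOpenCover (fun _ : Unit => (⊤ : W.toScheme.Opens)) := by
    apply le_antisymm le_top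
    intro y _
    exact Opens.mem_iSup.mpr ⟨(), trivial⟩
  obtain ⟨r, hr⟩ := Groth.Agent.H41.ModGlue.exists_hom_of_affine_family
    (F := (Scheme.Modules.restrictFunctor W.ι).obj F)
    (G := (Scheme.Modules.restrictFunctor W.ι).obj G)
    (fun _ : Unit => (⊤ : W.toScheme.Opens)) (fun _ => isAffineOpen_top _) (fun _ => ρ') hdir hcov
  refine ⟨r, ?_⟩
  refine Groth.Agent.H41.ModGlue.hom_ext_of_affine_cover _ _
    (fun _ : Unit => (⊤ : W.toScheme.Opens)) hcov (fun _ => isAffineOpen_top _) (fun _ x => ?_)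
  show r.app ⊤ (((Scheme.Modules.restrictFunctor W.ι).map ψ).app ⊤ x) = x
  rw [hr ()]
  show G.presheaf.map (homOfLE hEq.le).op
    (ρ (F.presheaf.map (homOfLE hEq.ge).op (ψ.app (W.ι ''ᵁ ⊤) (show Γ(G, W.ι ''ᵁ ⊤) from x)))) = x
  rw [← PullTrack.app_res ψ hEq.ge, hρ, res_res]
  have e1 : (homOfLE (hEq.le.trans hEq.ge)).op = 𝟙 (op (W.ι ''ᵁ ⊤)) := rfl
  rw [e1, CategoryTheory.Functor.map_id]
  rfl

end Groth.Agent.H70.UTTrans
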